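import Mathlib

/-!
# S4933, part (O): counting the eigenvalues of `y` (helper462)

`count_core` : `M` a multiset of `p ^ (m + 1)`-th roots of unity, stable under the `q`-th power, `e` the order of `q` modulo `p`,
at most `2 e` elements of `M` are `≠ 1`, and `M` has a primitive element `l₀`.  Then the number of elements `ω ^ k` with
`k ≡ r₀ mod p ^ m` is `1` or `2`.
-/

set_option autoImplicit false

namespace Cfsg.Agent.H462.HT

open Multiset

open scoped Classical in
theorem sum_countP_le {α : Type*} {e : ℕ} (P : ℕ → α → Prop) (a : α)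
    (h : ∀ x, (∑ i ∈ Finset.range e, if P i x then 1 else 0) + (if a = x then 1 else 0) ≤ 1) (M : Multiset α) :
    (∑ i ∈ Finset.range e, countP (P i) M) + count a M ≤ card M := by
  induction M using Multiset.induction with
  | empty => simp
  | cons x M ih =>
    have h1 := h x
    have e1 : ∀ i ∈ Finset.range e, countP (P i) (x ::ₘ M) = countP (P i) M + if P i x then 1 else 0 := by
      intro i _
      rw [countP_cons]
    rw [Finset.sum_congr rfl e1, Finset.sum_add_distrib, card_cons, count_cons]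
    have e2 : (if a = x then 1 else 0 : ℕ) = if a = x then 1 else 0 := rfl
    omega

theorem pow_eq_pow_iff {K : Type*} [Field K] {ω : K} {n : ℕ} (hn : 0 < n) (hω : IsPrimitiveRoot ω n) (a b : ℕ) :
    ω ^ a = ω ^ b ↔ a % n = b % n := by
  have key : ∀ c : ℕ, ω ^ c = ω ^ (c % n) := by
    intro c
    conv_lhs => rw [← Nat.mod_add_div c n, pow_add, pow_mul, hω.pow_eq_one, one_pow, mul_one]
  constructor
  · intro h
    rw [key a, key b] at h
    exact hω.pow_inj (Nat.mod_lt _ hn) (Nat.mod_lt _ hn) h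
  · intro h
    rw [key a, key b, h]

open scoped Classical in
/-- **counting** -/
theorem count_core {K : Type*} [Field K] {p q e m : ℕ} (hp : p.Prime) (hp2 : p ≠ 2) (he : 0 < e)
    (ho : orderOf ((q : ℕ) : ZMod p) = e) (hm : 1 ≤ m) {ω : K} (hω : IsPrimitiveRoot ω (p ^ (m + 1)))
    (M : Multiset K) (hM : ∀ x ∈ M, x ^ p ^ (m + 1) = 1) (hq : M.map (fun x => x ^ q) = M)
    (h1 : card M ≤ count 1 M + 2 * e) {l₀ : K} (h0 : l₀ ∈ M) (hl : l₀ ^ p ^ m ≠ 1) :
    ∃ (s : Multiset ℕ) (r₀ : ℕ), M = s.map (fun k => ω ^ k) ∧ ¬ p ∣ r₀ ∧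
      ¬ p ∣ card (s.filter fun k => k % p ^ m = r₀ % p ^ m) ∧ ω ^ r₀ = l₀ := by
  have : Fact p.Prime := ⟨hp⟩
  have hN : 0 < p ^ (m + 1) := pow_pos hp.pos _
  have : NeZero (p ^ (m + 1)) := ⟨hN.ne'⟩
  have hNm : 0 < p ^ m := pow_pos hp.pos _
  have hqp : ¬ p ∣ q := by
    intro h
    rw [(ZMod.natCast_eq_zero_iff q p).2 h] at ho
    have : Nontrivial (ZMod p) := ⟨⟨0, 1, by
      intro h01
      have h2 : ((1 : ℕ) : ZMod p) = 0 := by rw [Nat.cast_one]; exact h01.symm
      exact hp.one_lt.ne' (Nat.dvd_one.1 ((ZMod.natCast_eq_zero_iff 1 p).1 h2))⟩⟩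
    have h3 := pow_orderOf_eq_one (0 : ZMod p)
    rw [ho, zero_pow he.ne'] at h3
    exact zero_ne_one h3
  have hcop : Nat.Coprime q (p ^ (m + 1)) := ((Nat.Prime.coprime_iff_not_dvd hp).2 hqp).symm.pow_right _
  -- the exponents
  have hex : ∀ x : K, x ^ p ^ (m + 1) = 1 → ∃ k, ω ^ k = x := fun x hx => by
    obtain ⟨k, -, hk⟩ := hω.eq_pow_of_pow_eq_one hx
    exact ⟨k, hk⟩
  let κ : K → ℕ := fun x => if h : x ^ p ^ (m + 1) = 1 then Classical.choose (hex x h) else 0
  have hκ : ∀ x : K, x ^ p ^ (m + 1) = 1 → ω ^ κ x = x := by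
    intro x hx
    show ω ^ (if h : x ^ p ^ (m + 1) = 1 then Classical.choose (hex x h) else 0) = x
    rw [dif_pos hx]
    exact Classical.choose_spec (hex x hx)
  have hωp : IsPrimitiveRoot (ω ^ p) (p ^ m) := hω.pow hN (by rw [pow_succ, mul_comm])
  have hl0 : l₀ ^ p ^ (m + 1) = 1 := hM _ h0
  have hlp : IsPrimitiveRoot (l₀ ^ p) (p ^ m) := by
    have h2 : orderOf l₀ = p ^ (m + 1) := orderOf_eq_prime_pow hl hl0
    have h3 : IsPrimitiveRoot l₀ (p ^ (m + 1)) := h2 ▸ IsPrimitiveRoot.orderOf l₀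
    exact h3.pow hN (by rw [pow_succ, mul_comm])
  have hcl : ∀ x : K, x ^ p ^ (m + 1) = 1 → (κ x % p ^ m = κ l₀ % p ^ m ↔ x ^ p = l₀ ^ p) := by
    intro x hx
    rw [← pow_eq_pow_iff hNm hωp, ← pow_mul, ← pow_mul, mul_comm p, mul_comm p, pow_mul, pow_mul, hκ x hx, hκ l₀ hl0]
  -- the Frobenius
  have hinj : ∀ x y : K, x ^ p ^ (m + 1) = 1 → y ^ p ^ (m + 1) = 1 → ∀ i : ℕ, x ^ q ^ i = y ^ q ^ i → x = y := by
    intro x y hx hy i hxy
    have hc : Nat.Coprime (q ^ i) (p ^ (m + 1)) := hcop.pow_left i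
    have hy0 : y ≠ 0 := by
      rintro rfl
      rw [zero_pow hN.ne'] at hy
      exact zero_ne_one hy
    have h2 : (x / y) ^ q ^ i = 1 := by rw [div_pow, hxy, div_self (pow_ne_zero _ hy0)]
    have h3 : (x / y) ^ p ^ (m + 1) = 1 := by rw [div_pow, hx, hy, div_one]
    have h4 : orderOf (x / y) ∣ 1 := by
      rw [← hc]
      exact Nat.dvd_gcd (orderOf_dvd_of_pow_eq_one h2) (orderOf_dvd_of_pow_eq_one h3)
    have h5 : x / y = 1 := orderOf_eq_one_iff.1 (Nat.dvd_one.1 h4)
    rwa [div_eq_one_iff_eq hy0] at h5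
  have hqi : ∀ i : ℕ, M.map (fun x => x ^ q ^ i) = M := by
    intro i
    induction i with
    | zero => simp
    | succ i ih =>
      conv_rhs => rw [← ih, ← hq, Multiset.map_map]
      refine Multiset.map_congr rfl fun x _ => ?_
      show x ^ q ^ (i + 1) = (x ^ q) ^ q ^ i
      rw [← pow_mul, pow_succ, mul_comm]
  set c := countP (fun x : K => x ^ p = l₀ ^ p) M with hc
  have hci : ∀ i : ℕ, countP (fun x : K => x ^ p = l₀ ^ (p * q ^ i)) M = c := by
    intro i
    conv_lhs => rw [← hqi i]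
    rw [countP_map, hc, countP_eq_card_filter]
    congr 1
    refine filter_congr fun x hx => ?_
    have hx' := hM x hx
    have e1 : (x ^ q ^ i) ^ p = (x ^ p) ^ q ^ i := by rw [← pow_mul, ← pow_mul, mul_comm]
    rw [e1, pow_mul]
    constructor
    · intro h
      exact hinj _ _ (by rw [← pow_mul, mul_comm, pow_mul, hx', one_pow])
        (by rw [← pow_mul, mul_comm, pow_mul, hl0, one_pow]) i h
    · intro h
      rw [h]
  have hsum := sum_countP_le (e := e) (fun i (x : K) => x ^ p = l₀ ^ (p * q ^ i)) 1 (fun x => by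
    by_cases hx1 : (1 : K) = x
    · subst hx1
      rw [if_pos rfl, Finset.sum_eq_zero]
      intro i _
      rw [if_neg]
      intro h
      rw [one_pow, pow_mul, eq_comm, hlp.pow_eq_one_iff_dvd] at h
      exact hqp (hp.dvd_of_dvd_pow ((dvd_pow_self p (by omega)).trans h))
    · rw [if_neg hx1, add_zero]
      by_cases hex : ∃ i ∈ Finset.range e, x ^ p = l₀ ^ (p * q ^ i)
      · obtain ⟨i, hi, hxi⟩ := hex
        rw [Finset.sum_eq_single_of_mem i hi, if_pos hxi]
        intro j hj hji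
        rw [if_neg]
        intro hxj
        apply hji
        rw [hxi, pow_mul, pow_mul, pow_eq_pow_iff hNm hlp] at hxj
        have h4 : (q : ZMod p) ^ i = (q : ZMod p) ^ j := by
          have h5 : (q ^ i) ≡ (q ^ j) [MOD p] := Nat.ModEq.of_dvd (dvd_pow_self p (by omega : m ≠ 0)) hxj
          have h6 := (ZMod.natCast_eq_natCast_iff _ _ _).2 h5
          push_cast at h6
          exact h6
        have hcopp : Nat.Coprime q p := ((Nat.Prime.coprime_iff_not_dvd hp).2 hqp).symm
        have h7 : (ZMod.unitOfCoprime q hcopp) ^ i = (ZMod.unitOfCoprime q hcopp) ^ j := by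
          apply Units.ext
          push_cast
          rw [ZMod.coe_unitOfCoprime]
          exact h4
        have h8 : orderOf (ZMod.unitOfCoprime q hcopp) = e := by
          rw [← orderOf_units, ZMod.coe_unitOfCoprime, ho]
        have h9 := (pow_eq_pow_iff_modEq).1 h7
        rw [h8] at h9
        have h10 := Finset.mem_range.1 hi
        have h11 := Finset.mem_range.1 hj
        rw [Nat.ModEq, Nat.mod_eq_of_lt h10, Nat.mod_eq_of_lt h11] at h9
        exact h9.symm
      · rw [Finset.sum_eq_zero]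
        · norm_num
        · intro i hi
          rw [if_neg]
          intro h
          exact hex ⟨i, hi, h⟩) M
  rw [Finset.sum_congr rfl (fun i _ => hci i), Finset.sum_const, Finset.card_range, smul_eq_mul] at hsum
  have hc2 : c ≤ 2 := by
    have h2 : e * c ≤ e * 2 := by omega
    exact Nat.le_of_mul_le_mul_left h2 he
  have hc1 : 1 ≤ c := by
    rw [hc]
    exact countP_pos.2 ⟨l₀, h0, rfl⟩
  refine ⟨M.map κ, κ l₀, ?_, ?_, ?_, hκ l₀ hl0⟩
  · rw [Multiset.map_map]
    conv_lhs => rw [← Multiset.map_id M]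
    refine Multiset.map_congr rfl fun x hx => ?_
    exact (hκ x (hM x hx)).symm
  · intro h
    obtain ⟨k, hk⟩ := h
    apply hl
    rw [← hκ l₀ hl0, hk, ← pow_mul, mul_comm p k, mul_assoc, ← pow_succ', mul_comm k, pow_mul, hω.pow_eq_one, one_pow]
  · have h2 : card (filter (fun k => k % p ^ m = κ l₀ % p ^ m) (M.map κ)) = c := by
      rw [filter_map, card_map, hc, countP_eq_card_filter]
      congr 1
      refine filter_congr fun x hx => ?_
      exact hcl x (hM x hx)
    have h3 : card (filter (fun k => k % p ^ m = κ l₀ % p ^ m) (M.map κ)) = c := by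
      convert h2 using 3
    intro h
    have h4 : p ∣ c := by
      rw [← h3]
      convert h using 3
    have h5 := Nat.le_of_dvd hc1 h4
    have h6 := hp.two_le
    omega

theorem count_core' {K : Type*} [Field K] [DecidableEq K] {p q e m : ℕ} (hp : p.Prime) (hp2 : p ≠ 2) (he : 0 < e)
    (ho : orderOf ((q : ℕ) : ZMod p) = e) (hm : 1 ≤ m) {ω : K} (hω : IsPrimitiveRoot ω (p ^ (m + 1)))
    (M : Multiset K) (hM : ∀ x ∈ M, x ^ p ^ (m + 1) = 1) (hq : M.map (fun x => x ^ q) = M)
    (h1 : card M ≤ count 1 M + 2 * e) (h0 : ω ∈ M) :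
    ∃ s : Multiset ℕ, M = s.map (fun k => ω ^ k) ∧ ¬ p ∣ card (s.filter fun k => k % p ^ m = 1) := by
  classical
  have hN : 0 < p ^ (m + 1) := pow_pos hp.pos _
  have hNm : 0 < p ^ m := pow_pos hp.pos _
  have hωp : IsPrimitiveRoot (ω ^ p) (p ^ m) := hω.pow hN (by rw [pow_succ, mul_comm])
  have hωm : ω ^ p ^ m ≠ 1 := by
    intro h
    have h3 := (hω.pow_eq_one_iff_dvd _).1 h
    have h4 := Nat.le_of_dvd hNm h3
    rw [pow_succ] at h4
    have h5 := hp.two_le
    nlinarith
  obtain ⟨s, r₀, hs, hr, hc, hn⟩ := count_core hp hp2 he ho hm hω M hM hq (by convert h1) h0 hωm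
  refine ⟨s, hs, ?_⟩
  have h2 : r₀ % p ^ m = 1 := by
    have h3 : (ω ^ p) ^ r₀ = (ω ^ p) ^ 1 := by rw [← pow_mul, mul_comm, pow_mul, hn, pow_one]
    rw [pow_eq_pow_iff hNm hωp, Nat.mod_eq_of_lt (Nat.one_lt_pow (by omega) hp.one_lt)] at h3
    exact h3
  rw [h2] at hc
  exact hc

end Cfsg.Agent.H462.HT
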