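import Mathlib

/-!
# S4933, part (O): a small nondegenerate invariant subspace for an isometry of order `p` (helper462)
-/

set_option autoImplicit false

namespace Cfsg.Agent.H462.HT

open Polynomial Module

variable {F V : Type*} [Field F] [Finite F] [AddCommGroup V] [Module F V] [FiniteDimensional F V]

theorem cast_ne_zero_of_order {p e : ℕ} (hp : p.Prime) (he : 0 < e)
    (ho : orderOf ((Nat.card F : ℕ) : ZMod p) = e) : (p : F) ≠ 0 := by
  have hfac : Fact p.Prime := ⟨hp⟩
  have hF := Fintype.ofFinite F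
  intro h0
  obtain ⟨r, hr⟩ := CharP.exists F
  have hrp : r.Prime := CharP.char_is_prime F r
  obtain ⟨n, -, hn⟩ := FiniteField.card F r
  have h1 : r ∣ p := (CharP.cast_eq_zero_iff F r p).1 h0
  have h2 : r = p := (Nat.prime_dvd_prime_iff_eq hrp hp).1 h1
  subst h2
  have h3 : ((Nat.card F : ℕ) : ZMod r) = 0 := by
    rw [ZMod.natCast_eq_zero_iff, Nat.card_eq_fintype_card, hn]
    exact dvd_pow_self _ n.ne_zero
  rw [h3] at ho
  have h4 := pow_orderOf_eq_one (0 : ZMod r)
  rw [ho, zero_pow he.ne'] at h4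
  exact zero_ne_one h4

theorem dvd_card_pow_sub {p e : ℕ} (hp : p.Prime) (ho : orderOf ((Nat.card F : ℕ) : ZMod p) = e) :
    p ∣ Nat.card F ^ e - 1 := by
  have hfac : Fact p.Prime := ⟨hp⟩
  have h1 : Nat.card F ^ e ≡ 1 [MOD p] := by
    rw [← ZMod.natCast_eq_natCast_iff, Nat.cast_pow, ← ho, pow_orderOf_eq_one, Nat.cast_one]
  exact (Nat.modEq_iff_dvd' (Nat.one_le_pow _ _ Nat.card_pos)).1 h1.symm

theorem X_pow_dvd {p e : ℕ} (hp : p.Prime) (ho : orderOf ((Nat.card F : ℕ) : ZMod p) = e) :
    (X ^ p - 1 : F[X]) ∣ X ^ Nat.card F ^ e - X := by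
  obtain ⟨k, hk⟩ := dvd_card_pow_sub (F := F) hp ho
  have h1 : 1 ≤ Nat.card F ^ e := Nat.one_le_pow _ _ Nat.card_pos
  have h2 : Nat.card F ^ e = p * k + 1 := by omega
  rw [h2, pow_succ, pow_mul]
  have h3 : ((X : F[X]) ^ p) ^ k * X - X = ((X ^ p) ^ k - 1 ^ k) * X := by rw [one_pow]; ring
  rw [h3]
  exact (sub_dvd_pow_sub_pow _ _ _).mul_right _

/-- **a small irreducible subspace** -/
theorem exists_small {p e : ℕ} (hp : p.Prime) (he : 0 < e) (ho : orderOf ((Nat.card F : ℕ) : ZMod p) = e)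
    {t : Module.End F V} (ht : t ^ p = 1) {W : Submodule F V} (hW : W ≠ ⊥) (hWt : ∀ w ∈ W, t w ∈ W) :
    ∃ L : Submodule F V, L ≤ W ∧ L ≠ ⊥ ∧ (∀ w ∈ L, t w ∈ L) ∧ finrank F L ≤ e ∧
      ∀ L₁ : Submodule F V, L₁ ≤ L → (∀ w ∈ L₁, t w ∈ L₁) → L₁ = ⊥ ∨ L₁ = L := by
  obtain ⟨L, ⟨hLW, hL0, hLt⟩, hmin⟩ := WellFounded.has_min (wellFounded_lt (α := Submodule F V))
    {U : Submodule F V | U ≤ W ∧ U ≠ ⊥ ∧ ∀ w ∈ U, t w ∈ U} ⟨W, le_rfl, hW, hWt⟩
  have hirr : ∀ L₁ : Submodule F V, L₁ ≤ L → (∀ w ∈ L₁, t w ∈ L₁) → L₁ = ⊥ ∨ L₁ = L := by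
    intro L₁ h1 h2
    by_contra hcon
    push Not at hcon
    exact hmin L₁ ⟨h1.trans hLW, hcon.1, h2⟩ (lt_of_le_of_ne h1 hcon.2)
  refine ⟨L, hLW, hL0, hLt, ?_, hirr⟩
  have hpoly : ∀ (g : F[X]), ∀ w ∈ L, aeval t g w ∈ L := by
    intro g w hw
    induction g using Polynomial.induction_on' with
    | add a b ha hb => rw [map_add, LinearMap.add_apply]; exact L.add_mem ha hb
    | monomial n a =>
      rw [aeval_monomial, Module.algebraMap_end_eq_smul_id, Module.End.mul_apply, LinearMap.smul_apply, LinearMap.id_apply]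
      refine L.smul_mem a ?_
      induction n with
      | zero => exact hw
      | succ n ih => rw [pow_succ', Module.End.mul_apply]; exact hLt _ ih
  obtain ⟨v₀, hv₀, hv₀0⟩ := Submodule.exists_mem_ne_zero_of_ne_bot hL0
  -- an irreducible factor
  obtain ⟨f, hf, hfX, v, hv, hv0, hfv⟩ : ∃ f : F[X], Irreducible f ∧ f ∣ X ^ p - 1 ∧ ∃ v ∈ L, v ≠ 0 ∧ aeval t f v = 0 := by
    have hX0 : (X ^ p - 1 : F[X]) ≠ 0 := (monic_X_pow_sub_C (1 : F) hp.ne_zero).ne_zero
    have key : ∀ s : Multiset F[X], (∀ f ∈ s, Irreducible f) → aeval t s.prod v₀ = 0 → 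
        ∃ f ∈ s, ∃ v ∈ L, v ≠ 0 ∧ aeval t f v = 0 := by
      intro s
      induction s using Multiset.induction with
      | empty =>
        intro _ h
        rw [Multiset.prod_zero, map_one] at h
        exact absurd h hv₀0
      | cons f s ih =>
        intro hs h
        by_cases h1 : aeval t s.prod v₀ = 0
        · obtain ⟨f', hf', hv⟩ := ih (fun f hf => hs f (Multiset.mem_cons_of_mem hf)) h1
          exact ⟨f', Multiset.mem_cons_of_mem hf', hv⟩
        · refine ⟨f, Multiset.mem_cons_self _ _, aeval t s.prod v₀, hpoly _ _ hv₀, h1, ?_⟩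
          rw [Multiset.prod_cons, map_mul, Module.End.mul_apply] at h
          exact h
    obtain ⟨u, hu⟩ := UniqueFactorizationMonoid.factors_prod hX0
    obtain ⟨f, hfs, hfv⟩ := key (UniqueFactorizationMonoid.factors (X ^ p - 1 : F[X]))
      (fun f hf => UniqueFactorizationMonoid.irreducible_of_factor f hf) (by
        have h1 : aeval t (X ^ p - 1 : F[X]) = 0 := by
          rw [map_sub, map_pow, aeval_X, map_one, ht, sub_self]
        have h2 : aeval t (UniqueFactorizationMonoid.factors (X ^ p - 1 : F[X])).prod * aeval t (u : F[X]) = 0 := by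
          rw [← map_mul, hu, h1]
        have h3 : aeval t (UniqueFactorizationMonoid.factors (X ^ p - 1 : F[X])).prod = 0 := by
          have h4 : aeval t (u : F[X]) * aeval t ((u⁻¹ : F[X]ˣ) : F[X]) = 1 := by
            rw [← map_mul, Units.mul_inv, map_one]
          calc _ = aeval t (UniqueFactorizationMonoid.factors (X ^ p - 1 : F[X])).prod *
                (aeval t (u : F[X]) * aeval t ((u⁻¹ : F[X]ˣ) : F[X])) := by rw [h4, mul_one]
            _ = 0 := by rw [← mul_assoc, h2, zero_mul]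
        rw [h3, LinearMap.zero_apply])
    exact ⟨f, UniqueFactorizationMonoid.irreducible_of_factor f hfs, UniqueFactorizationMonoid.dvd_of_mem_factors hfs, hfv⟩
  have hdeg : f.natDegree ≤ e := Nat.le_of_dvd he
    (hf.natDegree_dvd_of_dvd_X_pow_card_pow_sub_X (hfX.trans (X_pow_dvd hp ho)))
  -- the cyclic subspace of `v`
  let Θ : degreeLT F f.natDegree →ₗ[F] V :=
    { toFun := fun g => aeval t (g : F[X]) v
      map_add' := fun a b => by rw [Submodule.coe_add, map_add, LinearMap.add_apply]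
      map_smul' := fun c a => by rw [Submodule.coe_smul, map_smul, LinearMap.smul_apply, RingHom.id_apply] }
  have hmod : ∀ g : F[X], aeval t g v ∈ LinearMap.range Θ := by
    intro g
    refine ⟨⟨g % f, ?_⟩, ?_⟩
    · rw [mem_degreeLT, ← degree_eq_natDegree hf.ne_zero]
      exact degree_mod_lt g hf.ne_zero
    · show aeval t (g % f) v = aeval t g v
      conv_rhs => rw [← EuclideanDomain.mod_add_div g f, map_add, LinearMap.add_apply, mul_comm f, map_mul,
        Module.End.mul_apply, hfv, map_zero, add_zero]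
  have hrange : LinearMap.range Θ = L := by
    have h1 : LinearMap.range Θ ≤ L := by
      rintro _ ⟨g, rfl⟩
      exact hpoly _ _ hv
    have h2 : ∀ w ∈ LinearMap.range Θ, t w ∈ LinearMap.range Θ := by
      rintro _ ⟨g, rfl⟩
      show t (aeval t (g : F[X]) v) ∈ _
      have h1 := hmod (X * (g : F[X]))
      rw [map_mul, aeval_X] at h1
      exact h1
    rcases hirr (LinearMap.range Θ) h1 h2 with h | h
    · exfalso
      have h1 := hmod 1
      rw [h, Submodule.mem_bot, map_one] at h1
      exact hv0 h1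
    · exact h
  rw [← hrange]
  calc finrank F (LinearMap.range Θ) ≤ finrank F (degreeLT F f.natDegree) := LinearMap.finrank_range_le Θ
    _ = f.natDegree := by
      rw [(degreeLTEquiv F f.natDegree).finrank_eq, finrank_fin_fun]
    _ ≤ e := hdeg

/-- `t` is semisimple -/
theorem isSemisimple_of_pow {p : ℕ} (hpF : (p : F) ≠ 0) (hp0 : 0 < p) {t : Module.End F V} (ht : t ^ p = 1) : t.IsSemisimple := by
  refine Module.End.isSemisimple_of_squarefree_aeval_eq_zero (p := X ^ p - 1) ?_ ?_
  · exact ((X_pow_sub_one_separable_iff).2 hpF).squarefree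
  · rw [map_sub, map_pow, aeval_X, map_one, ht, sub_self]

/-- **a small nondegenerate invariant subspace** -/
theorem exists_nondeg {p e : ℕ} (hp : p.Prime) (he : 0 < e) (ho : orderOf ((Nat.card F : ℕ) : ZMod p) = e)
    (B : LinearMap.BilinForm F V) (hB : B.IsRefl) (hnd : ∀ x, (∀ y, B x y = 0) → x = 0)
    {t : Module.End F V} (ht : t ^ p = 1) (ht1 : t ≠ 1) (htB : ∀ x y, B (t x) (t y) = B x y) :
    ∃ U : Submodule F V, (∀ w ∈ U, t w ∈ U) ∧ finrank F U ≤ 2 * e ∧ IsCompl U (B.orthogonal U) ∧ ∃ u ∈ U, t u ≠ u := by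
  have hpF := cast_ne_zero_of_order (F := F) hp he ho
  have hss := isSemisimple_of_pow hpF hp.pos ht
  have hcomm : Commute t (t - 1) := (Commute.refl t).sub_right (Commute.one_right t)
  have hW : LinearMap.range (t - 1) ≠ ⊥ := by
    rw [Ne, LinearMap.range_eq_bot, sub_eq_zero]
    exact ht1
  obtain ⟨L, hLW, hL0, hLt, hLe, hirr⟩ := exists_small hp he ho ht hW (by
    rintro _ ⟨w, rfl⟩
    refine ⟨t w, ?_⟩
    rw [← Module.End.mul_apply, ← Module.End.mul_apply, hcomm.eq])
  have hmove : ∃ u ∈ L, t u ≠ u := by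
    by_contra hcon
    push Not at hcon
    apply hL0
    rw [eq_bot_iff]
    intro u hu
    obtain ⟨w, hw⟩ := hLW hu
    have htu := hcon u hu
    have h1 : ∀ k : ℕ, (t ^ k) w = w + (k : F) • u := by
      intro k
      induction k with
      | zero => simp
      | succ k ih =>
        have h2 : t w = w + u := by rw [← hw, LinearMap.sub_apply, Module.End.one_apply]; abel
        rw [pow_succ', Module.End.mul_apply, ih, map_add, map_smul, htu, h2, Nat.cast_succ, add_smul, one_smul]
        abel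
    have h2 := h1 p
    rw [ht, Module.End.one_apply] at h2
    have h3 : (p : F) • u = 0 := by simpa using h2.symm
    exact (smul_eq_zero.1 h3).resolve_left hpF
  have hperp : ∀ U : Submodule F V, (∀ w ∈ U, t w ∈ U) → ∀ w ∈ B.orthogonal U, t w ∈ B.orthogonal U := by
    intro U hU w hw
    rw [LinearMap.BilinForm.mem_orthogonal_iff] at hw ⊢
    intro u hu
    -- `u = t (t ^ (p - 1) u)`
    have h1 : ∀ k : ℕ, (t ^ k) u ∈ U := by
      intro k
      induction k with
      | zero => exact hu
      | succ k ih => rw [pow_succ', Module.End.mul_apply]; exact hU _ ih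
    have h2 : t ((t ^ (p - 1)) u) = u := by
      rw [← Module.End.mul_apply, ← pow_succ', Nat.sub_add_cancel hp.one_lt.le, ht, Module.End.one_apply]
    show B u (t w) = 0
    rw [← h2, htB]
    exact hw _ (h1 _)
  have hnd' : B.Nondegenerate := by
    refine ⟨hnd, fun y hy => hnd y fun x => hB _ _ (hy x)⟩
  have hcompl : ∀ U : Submodule F V, U ⊓ B.orthogonal U = ⊥ → IsCompl U (B.orthogonal U) := by
    intro U hU
    refine LinearMap.BilinForm.isCompl_orthogonal_of_restrict_nondegenerate hB ?_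
    exact B.nondegenerate_restrict_of_disjoint_orthogonal hB (disjoint_iff.2 hU)
  rcases hirr (L ⊓ B.orthogonal L) inf_le_left (fun w hw => ⟨hLt w hw.1, hperp L hLt w hw.2⟩) with h | h
  · obtain ⟨u, hu, hu'⟩ := hmove
    exact ⟨L, hLt, by omega, hcompl L h, u, hu, hu'⟩
  · have hLL : L ≤ B.orthogonal L := by
      have h5 : L ⊓ B.orthogonal L ≤ B.orthogonal L := inf_le_right
      rwa [h] at h5
    obtain ⟨L', hL't, hL'⟩ := (Module.End.isSemisimple_iff.1 hss) (B.orthogonal L) (by
      rw [Module.End.mem_invtSubmodule]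
      exact fun w hw => hperp L hLt w hw)
    rw [Module.End.mem_invtSubmodule] at hL't
    refine ⟨L ⊔ L', ?_, ?_, ?_, ?_⟩
    · intro w hw
      obtain ⟨a, ha, b, hb, rfl⟩ := Submodule.mem_sup.1 hw
      rw [map_add]
      exact Submodule.add_mem_sup (hLt a ha) (hL't hb)
    · have h1 := Submodule.finrank_add_eq_of_isCompl hL'
      have h2 := LinearMap.BilinForm.finrank_orthogonal hnd' L
      have h3 := Submodule.finrank_add_le_finrank_add_finrank L L'
      have h4 := Submodule.finrank_le L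
      omega
    · refine hcompl _ ?_
      rw [eq_bot_iff]
      rintro u ⟨hu, hu'⟩
      rw [SetLike.mem_coe, LinearMap.BilinForm.mem_orthogonal_iff] at hu'
      obtain ⟨a, ha, b, hb, rfl⟩ := Submodule.mem_sup.1 hu
      have hb0 : b = 0 := by
        have h1 : b ∈ B.orthogonal L := by
          rw [LinearMap.BilinForm.mem_orthogonal_iff]
          intro x hx
          have h2 : B x (a + b) = 0 := hu' x (Submodule.mem_sup_left hx)
          have h3 : B x a = 0 := hLL ha x hx
          show B x b = 0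
          rw [map_add, h3, zero_add] at h2
          exact h2
        have h2 : b ∈ B.orthogonal L ⊓ L' := ⟨h1, hb⟩
        rw [hL'.inf_eq_bot] at h2
        exact (Submodule.mem_bot F).1 h2
      rw [hb0, add_zero]
      rw [Submodule.mem_bot]
      apply hnd
      intro y
      have hy : y ∈ B.orthogonal L ⊔ L' := by rw [hL'.sup_eq_top]; trivial
      obtain ⟨c, hc, d, hd, rfl⟩ := Submodule.mem_sup.1 hy
      rw [map_add]
      have h1 : B a c = 0 := hc a ha
      have h2 : B a d = 0 := by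
        refine hB _ _ ?_
        have h3 : B d (a + b) = 0 := hu' d (Submodule.mem_sup_right hd)
        rw [hb0, add_zero] at h3
        exact h3
      rw [h1, h2, add_zero]
    · obtain ⟨u, hu, hu'⟩ := hmove
      exact ⟨u, Submodule.mem_sup_left hu, hu'⟩

end Cfsg.Agent.H462.HT
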