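import Mathlib

/-!
# S4933, part (O): a polynomial `g` with `g ^ (p ^ m) = X` modulo `X ^ p - 1` (helper462)
-/

set_option autoImplicit false

namespace Cfsg.Agent.H462.HT

open Polynomial

/-- in a finite field whose multiplicative group has order divisible by `p ^ (m + 1)`, elements of order `p` are
`p ^ m`-th powers -/
theorem exists_root_field {B : Type*} [Field B] [Finite B] {p m : ℕ} (hp : p.Prime)
    (hd : p ^ (m + 1) ∣ Nat.card B - 1) {x : B} (hx : x ^ p = 1) : ∃ z : B, z ^ p ^ m = x := by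
  have := Fintype.ofFinite B
  have hx0 : x ≠ 0 := by
    rintro rfl
    rw [zero_pow hp.ne_zero] at hx
    exact zero_ne_one hx
  obtain ⟨g, hg⟩ := IsCyclic.exists_generator (α := Bˣ)
  obtain ⟨n, hn⟩ := hg (Units.mk0 x hx0)
  have hn' : g ^ n = Units.mk0 x hx0 := hn
  have hcard : orderOf g = Nat.card B - 1 := by
    rw [orderOf_eq_card_of_forall_mem_zpowers hg, Nat.card_units]
  have h1 : g ^ (n * p) = 1 := by
    rw [zpow_mul, hn', zpow_natCast]
    apply Units.ext
    push_cast
    rw [Units.val_mk0, hx]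
  have h2 : (orderOf g : ℤ) ∣ n * p := orderOf_dvd_iff_zpow_eq_one.2 h1
  have h3 : ((p ^ (m + 1) : ℕ) : ℤ) ∣ n * p := by
    refine dvd_trans ?_ h2
    rw [hcard]
    exact_mod_cast hd
  have h4 : ((p ^ m : ℕ) : ℤ) ∣ n := by
    have hp0 : (p : ℤ) ≠ 0 := by exact_mod_cast hp.ne_zero
    refine Int.dvd_of_mul_dvd_mul_right hp0 ?_
    convert h3 using 1
    push_cast
    ring
  obtain ⟨k, hk⟩ := h4
  refine ⟨((g ^ k : Bˣ) : B), ?_⟩
  have h5 : (g ^ k) ^ (p ^ m) = Units.mk0 x hx0 := by
    rw [← hn', hk, mul_comm, zpow_mul, zpow_natCast]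
  have h6 := congrArg Units.val h5
  rw [Units.val_pow_eq_pow_val] at h6
  exact h6

/-- **a polynomial `g` with `g ^ (p ^ m) = X` modulo `X ^ p - 1`** -/
theorem exists_poly (F : Type*) [Field F] [Finite F] {p e m : ℕ} (hp : p.Prime) (hm : 1 ≤ m)
    (ho : orderOf ((Nat.card F : ℕ) : ZMod p) = e) (he : 0 < e) (hd : p ^ (m + 1) ∣ Nat.card F ^ e - 1) :
    ∃ g : F[X], (X ^ p - 1 : F[X]) ∣ g ^ p ^ m - X := by
  classical
  have hfac : Fact p.Prime := ⟨hp⟩
  have hF := Fintype.ofFinite F
  set q := Nat.card F with hq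
  have hq1 : 1 < q := Finite.one_lt_card
  obtain ⟨r, hr⟩ := CharP.exists F
  have hrp : r.Prime := CharP.char_is_prime F r
  have hrf : Fact r.Prime := ⟨hrp⟩
  obtain ⟨n, -, hn⟩ := FiniteField.card F r
  have hqn : q = r ^ (n : ℕ) := by rw [hq, Nat.card_eq_fintype_card, hn]
  have hmonic : (X ^ p - 1 : F[X]).Monic := monic_X_pow_sub_C 1 hp.ne_zero
  let I : Ideal F[X] := Ideal.span {(X ^ p - 1 : F[X])}
  let A := F[X] ⧸ I
  let x : A := Ideal.Quotient.mk I X
  have hx : x ^ p = 1 := by
    have h1 : Ideal.Quotient.mk I (X ^ p - 1) = 0 :=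
      Ideal.Quotient.eq_zero_iff_mem.2 (Ideal.subset_span rfl)
    rw [map_sub, map_pow, map_one, sub_eq_zero] at h1
    exact h1
  have : Nontrivial A := by
    refine Ideal.Quotient.nontrivial_iff.2 ?_
    rw [Ne, Ideal.span_singleton_eq_top]
    intro hu
    have h2 : (X ^ p - 1 : F[X]).natDegree = p := natDegree_X_pow_sub_C (r := 1)
    rw [natDegree_eq_zero_of_isUnit hu] at h2
    exact hp.ne_zero h2.symm
  have : CharP A r := charP_of_injective_algebraMap (algebraMap F A).injective r
  -- all elements satisfy `a ^ (q ^ e) = a`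
  have hfrob : ∀ a : A, a ^ q ^ e = a := by
    intro a
    obtain ⟨g, rfl⟩ := Ideal.Quotient.mk_surjective a
    have h1 : (iterateFrobenius A r (n * e)).comp (Ideal.Quotient.mk I) = Ideal.Quotient.mk I := by
      refine Polynomial.ringHom_ext (fun c => ?_) ?_
      · show (Ideal.Quotient.mk I (C c)) ^ r ^ (n * e : ℕ) = _
        rw [← map_pow, ← C_pow, pow_mul, ← hqn, hq, Nat.card_eq_fintype_card, FiniteField.pow_card_pow]
      · show x ^ r ^ (n * e : ℕ) = x
        rw [pow_mul, ← hqn]
        have h2 : q ^ e ≡ 1 [MOD p] := by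
          rw [← ZMod.natCast_eq_natCast_iff, Nat.cast_pow, ← ho, pow_orderOf_eq_one, Nat.cast_one]
        have h3 : 1 ≤ q ^ e := Nat.one_le_pow _ _ (by omega)
        obtain ⟨k, hk⟩ := (Nat.modEq_iff_dvd' h3).1 h2.symm
        have h4 : q ^ e = p * k + 1 := by omega
        rw [h4, pow_succ, pow_mul, hx, one_pow, one_mul]
    have h2 := RingHom.congr_fun h1 g
    have h3 : (iterateFrobenius A r (n * e)).comp (Ideal.Quotient.mk I) g = (Ideal.Quotient.mk I g) ^ r ^ (n * e : ℕ) := rfl
    rw [h3, pow_mul, ← hqn] at h2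
    exact h2
  have hqe : 2 ≤ q ^ e := by
    calc 2 ≤ q ^ 1 := by rw [pow_one]; omega
      _ ≤ q ^ e := Nat.pow_le_pow_right (by omega) he
  have hred : IsReduced A := by
    refine ⟨fun a ⟨k, hk⟩ => ?_⟩
    have h1 : ∀ j : ℕ, a ^ (q ^ e) ^ j = a := by
      intro j
      induction j with
      | zero => simp
      | succ j ih => rw [pow_succ, pow_mul, ih, hfrob]
    rw [← h1 k]
    have h2 : k ≤ (q ^ e) ^ k := (Nat.lt_pow_self (by omega)).le
    obtain ⟨l, hl⟩ := Nat.exists_eq_add_of_le h2
    rw [hl, pow_add, hk, zero_mul]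
  have hfd : Module.Finite F A := hmonic.finite_quotient
  have hfinA : Finite A := Module.finite_of_finite F
  have hart : IsArtinianRing A := inferInstance
  -- the roots in the residue fields
  have hroot : ∀ J : MaximalSpectrum A, ∃ z : A ⧸ J.asIdeal, z ^ p ^ m = Ideal.Quotient.mk J.asIdeal x := by
    intro J
    have hJ := J.isMaximal
    let B := A ⧸ J.asIdeal
    letI : Field B := Ideal.Quotient.field J.asIdeal
    have hfB : Finite B := Finite.of_surjective _ Ideal.Quotient.mk_surjective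
    have hxB : (Ideal.Quotient.mk J.asIdeal x : B) ^ p = 1 := by rw [← map_pow, hx, map_one]
    by_cases h1 : (Ideal.Quotient.mk J.asIdeal x : B) = 1
    · exact ⟨1, by rw [h1, one_pow]⟩
    · refine exists_root_field hp ?_ hxB
      letI : Algebra F B := ((Ideal.Quotient.mk J.asIdeal).comp (algebraMap F A)).toAlgebra
      have hfBF : Module.Finite F B := Module.Finite.of_finite
      have hcB : Nat.card B = q ^ Module.finrank F B := by
        rw [hq]
        exact Module.natCard_eq_pow_finrank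
      have h2 : orderOf (Ideal.Quotient.mk J.asIdeal x : B) = p := orderOf_eq_prime hxB h1
      have hx0 : (Ideal.Quotient.mk J.asIdeal x : B) ≠ 0 := by
        intro h
        rw [h, zero_pow hp.ne_zero] at hxB
        exact zero_ne_one hxB
      have h3 : p ∣ Nat.card B - 1 := by
        have := Fintype.ofFinite B
        have h4 := FiniteField.pow_card_sub_one_eq_one _ hx0
        rw [← h2, Nat.card_eq_fintype_card]
        exact orderOf_dvd_of_pow_eq_one h4
      have h5 : e ∣ Module.finrank F B := by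
        rw [← ho]
        apply orderOf_dvd_of_pow_eq_one
        have h6 : 1 ≤ Nat.card B := Nat.card_pos
        have h7 : ((Nat.card B - 1 : ℕ) : ZMod p) = 0 := (ZMod.natCast_eq_zero_iff _ _).2 h3
        rw [Nat.cast_sub h6, hcB] at h7
        push_cast at h7
        exact sub_eq_zero.1 h7
      rw [hcB]
      exact hd.trans (Nat.pow_sub_one_dvd_pow_sub_one q h5)
  choose z hz using hroot
  have hz' := (IsArtinianRing.equivPi A)
  obtain ⟨a, ha⟩ := (IsArtinianRing.equivPi A).surjective z
  have hax : a ^ p ^ m = x := by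
    apply (IsArtinianRing.equivPi A).injective
    rw [map_pow, ha]
    funext J
    rw [Pi.pow_apply, hz]
    rfl
  obtain ⟨g, rfl⟩ := Ideal.Quotient.mk_surjective a
  refine ⟨g, ?_⟩
  rw [← map_pow] at hax
  have h1 := Ideal.Quotient.eq.1 hax
  exact Ideal.mem_span_singleton.1 h1

end Cfsg.Agent.H462.HT
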