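import Cfsg.Agent.H37.HT.Fd
import Cfsg.Agent.H988.CopCyc.Orth
import Cfsg.Agent.H334.Moved.Orth

/-!
# S4933, part (O): the Sylow 3-subgroups of `PΩ₈⁺(q)`, `3 ∤ q`, are not abelian (helper462)
-/

set_option autoImplicit false

namespace Cfsg.Agent.H462.HT

open Cfsg.Agent.H37.HT

/-- elements of a `p`-group of class two commute -/
theorem comm_of_ab {p : ℕ} [Fact p.Prime] {G : Type*} [Group G] [Finite G] (hab : AbSyl p G) {c d z : G}
    (h : c * d * c⁻¹ = z * d) (hcz : c * z = z * c) (hdz : d * z = z * d) (hc : IsP p c) (hd : IsP p d) (hz : IsP p z) :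
    z = 1 := by
  have hpg : ∀ x : G, IsP p x → IsPGroup p (Subgroup.zpowers x) := by
    rintro x ⟨k, hk⟩
    rintro ⟨_, n, rfl⟩
    refine ⟨k, Subtype.ext ?_⟩
    rw [Subgroup.coe_pow, Subgroup.coe_one]
    show (x ^ n) ^ p ^ k = 1
    rw [← zpow_natCast (x ^ n), ← zpow_mul, mul_comm, zpow_mul, zpow_natCast, hk, one_zpow]
  have h1 : IsPGroup p (Subgroup.zpowers d ⊔ Subgroup.zpowers z : Subgroup G) := by
    refine IsPGroup.to_sup_of_normal_right' (hpg d hd) (hpg z hz) ?_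
    rw [Subgroup.zpowers_le]
    rw [Subgroup.mem_normalizer_iff_map_conj_eq, MonoidHom.map_zpowers]
    congr 1
    show d * z * d⁻¹ = z
    rw [hdz, mul_inv_cancel_right]
  set D := (Subgroup.zpowers d ⊔ Subgroup.zpowers z : Subgroup G) with hD
  have hdD : d ∈ D := Subgroup.mem_sup_left (Subgroup.mem_zpowers d)
  have hzD : z ∈ D := Subgroup.mem_sup_right (Subgroup.mem_zpowers z)
  have h2 : IsPGroup p (Subgroup.zpowers c ⊔ D : Subgroup G) := by
    refine IsPGroup.to_sup_of_normal_right' (hpg c hc) h1 ?_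
    rw [Subgroup.zpowers_le, Subgroup.mem_normalizer_iff_map_conj_eq]
    refine Subgroup.eq_of_le_of_card_ge ?_ ?_
    · rw [hD, Subgroup.map_sup, MonoidHom.map_zpowers, MonoidHom.map_zpowers, sup_le_iff, Subgroup.zpowers_le,
        Subgroup.zpowers_le]
      constructor
      · show c * d * c⁻¹ ∈ D
        rw [h]
        exact D.mul_mem hzD hdD
      · show c * z * c⁻¹ ∈ D
        rw [hcz, mul_inv_cancel_right]
        exact hzD
    · rw [Subgroup.card_map_of_injective (MulAut.conj c).injective]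
  obtain ⟨P, hP⟩ := h2.exists_le_sylow
  have h3 : c * d = d * c := hab P c (hP (Subgroup.mem_sup_left (Subgroup.mem_zpowers c))) d
    (hP (Subgroup.mem_sup_right hdD))
  have h4 : z * d = 1 * d := by rw [← h, h3, mul_inv_cancel_right, one_mul]
  exact mul_right_cancel h4

open QuadraticMap Cfsg.Agent.LieClassical.QuadForms Cfsg.Agent.LieClassical.OrthCore
  Cfsg.Agent.LieClassical.OrthTrans Cfsg.Agent.ClassicalGeometry.TrialityOct

universe u

variable {F : Type u} [Field F]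

/-- the norm form of `F [ω]` -/
def nf (x : F × F) : F := x.1 ^ 2 - x.1 * x.2 + x.2 ^ 2

/-- multiplication by `ω` -/
def om : (F × F) ≃ₗ[F] (F × F) where
  toFun x := (-x.2, x.1 - x.2)
  invFun x := (x.2 - x.1, -x.1)
  map_add' x y := by ext <;> simp <;> ring
  map_smul' a x := by ext <;> simp <;> ring
  left_inv x := by ext <;> simp
  right_inv x := by ext <;> simp

theorem om_apply (x : F × F) : om x = (-x.2, x.1 - x.2) := rfl

theorem om_om_om (x : F × F) : om (om (om x)) = x := by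
  rw [om_apply, om_apply, om_apply]
  ext <;> simp <;> ring

theorem nf_om (x : F × F) : nf (om x) = nf x := by
  rw [om_apply, nf, nf]; ring

/-- the model -/
abbrev V4 (F : Type u) := (F × F) × (F × F) × (F × F) × (F × F)

/-- its quadratic form -/
def q4 (x : V4 F) : F := nf x.1 + nf x.2.1 + nf x.2.2.1 + nf x.2.2.2

/-- the cyclic permutation -/
def c4 : V4 F ≃ₗ[F] V4 F where
  toFun x := (x.2.2.1, x.1, x.2.1, x.2.2.2)
  invFun x := (x.2.1, x.2.2.1, x.1, x.2.2.2)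
  map_add' x y := rfl
  map_smul' a x := rfl
  left_inv x := rfl
  right_inv x := rfl

/-- the diagonal element -/
def d4 : V4 F ≃ₗ[F] V4 F where
  toFun x := (x.1, om x.2.1, om (om x.2.2.1), x.2.2.2)
  invFun x := (x.1, om (om x.2.1), om x.2.2.1, x.2.2.2)
  map_add' x y := by simp only [map_add, Prod.fst_add, Prod.snd_add, Prod.mk_add_mk]
  map_smul' a x := by simp only [map_smul, Prod.smul_fst, Prod.smul_snd, Prod.smul_mk, RingHom.id_apply]
  left_inv x := by simp only [om_om_om]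
  right_inv x := by simp only [om_om_om]

/-- the scalar -/
def z4 : V4 F ≃ₗ[F] V4 F where
  toFun x := (om (om x.1), om (om x.2.1), om (om x.2.2.1), x.2.2.2)
  invFun x := (om x.1, om x.2.1, om x.2.2.1, x.2.2.2)
  map_add' x y := by simp only [map_add, Prod.fst_add, Prod.snd_add, Prod.mk_add_mk]
  map_smul' a x := by simp only [map_smul, Prod.smul_fst, Prod.smul_snd, Prod.smul_mk, RingHom.id_apply]
  left_inv x := by simp only [om_om_om]
  right_inv x := by simp only [om_om_om]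

theorem c4_q (x : V4 F) : q4 (c4 x) = q4 x := by
  show nf x.2.2.1 + nf x.1 + nf x.2.1 + nf x.2.2.2 = q4 x
  rw [q4]; ring

theorem d4_q (x : V4 F) : q4 (d4 x) = q4 x := by
  show nf x.1 + nf (om x.2.1) + nf (om (om x.2.2.1)) + nf x.2.2.2 = q4 x
  rw [nf_om, nf_om, nf_om, q4]

theorem z4_q (x : V4 F) : q4 (z4 x) = q4 x := by
  show nf (om (om x.1)) + nf (om (om x.2.1)) + nf (om (om x.2.2.1)) + nf x.2.2.2 = q4 x
  rw [nf_om, nf_om, nf_om, nf_om, nf_om, nf_om, q4]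

theorem c4_d4 : (c4 * d4 : V4 F ≃ₗ[F] V4 F) = z4 * d4 * c4 := by
  apply LinearEquiv.ext
  intro x
  show ((om (om x.2.2.1), x.1, om x.2.1, x.2.2.2) : V4 F) =
    (om (om x.2.2.1), om (om (om x.1)), om (om (om (om x.2.1))), x.2.2.2)
  rw [om_om_om, om_om_om]

theorem c4_z4 : (c4 * z4 : V4 F ≃ₗ[F] V4 F) = z4 * c4 := rfl

theorem d4_z4 : (d4 * z4 : V4 F ≃ₗ[F] V4 F) = z4 * d4 := rfl

theorem c4_pow : (c4 : V4 F ≃ₗ[F] V4 F) ^ 3 = 1 := rfl

theorem d4_pow : (d4 : V4 F ≃ₗ[F] V4 F) ^ 3 = 1 := by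
  apply LinearEquiv.ext
  intro x
  show ((x.1, om (om (om x.2.1)), om (om (om (om (om (om x.2.2.1))))), x.2.2.2) : V4 F) = x
  rw [om_om_om, om_om_om, om_om_om]

theorem z4_pow : (z4 : V4 F ≃ₗ[F] V4 F) ^ 3 = 1 := by
  apply LinearEquiv.ext
  intro x
  show ((om (om (om (om (om (om x.1))))), om (om (om (om (om (om x.2.1))))), om (om (om (om (om (om x.2.2.1))))),
    x.2.2.2) : V4 F) = x
  simp only [om_om_om]

/-- `a ^ 2 - a b + b ^ 2 = -1` -/
theorem exists_ab (F : Type u) [Field F] [Finite F] : ∃ a b : F, a ^ 2 - a * b + b ^ 2 = -1 ∨ (3 : F) = 0 := by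
  have := Fintype.ofFinite F
  by_cases h2 : ringChar F = 2
  · have : CharP F 2 := by rw [← h2]; exact ringChar.charP F
    exact ⟨1, 0, Or.inl (by rw [CharTwo.neg_eq]; ring)⟩
  · have h20 : (2 : F) ≠ 0 := Ring.two_ne_zero h2
    by_cases h3 : (3 : F) = 0
    · exact ⟨0, 0, Or.inr h3⟩
    · obtain ⟨x, y, hxy⟩ := FiniteField.exists_root_sum_quadratic (R := F) (f := Polynomial.X ^ 2) 
        (g := Polynomial.C 3 * Polynomial.X ^ 2 + Polynomial.C 4) (by simp) (by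
          compute_degree!) (FiniteField.odd_card_of_char_ne_two h2)
      simp only [Polynomial.eval_pow, Polynomial.eval_X, Polynomial.eval_add, Polynomial.eval_mul, Polynomial.eval_C] at hxy
      refine ⟨(x + y) / 2, y, Or.inl ?_⟩
      field_simp
      linear_combination hxy

/-- the isometry onto the hyperbolic space -/
def j4 (α β : F) : V4 F →ₗ[F] (Fin 4 ⊕ Fin 4 → F) where
  toFun x := Sum.elim
    ![x.1.1 + (x.2.1.1 * α - x.2.1.2 * β), x.1.2 + (x.2.1.1 * β + x.2.1.2 * (α - β)),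
      x.2.2.1.1 + (x.2.2.2.1 * α - x.2.2.2.2 * β), x.2.2.1.2 + (x.2.2.2.1 * β + x.2.2.2.2 * (α - β))]
    ![x.1.1 - x.1.2 - (x.2.1.1 * α - x.2.1.2 * β),
      x.1.2 + (x.2.1.1 * α - x.2.1.2 * β) - (x.2.1.1 * β + x.2.1.2 * (α - β)),
      x.2.2.1.1 - x.2.2.1.2 - (x.2.2.2.1 * α - x.2.2.2.2 * β),
      x.2.2.1.2 + (x.2.2.2.1 * α - x.2.2.2.2 * β) - (x.2.2.2.1 * β + x.2.2.2.2 * (α - β))]
  map_add' x y := by
    funext i
    rcases i with i | i <;> fin_cases i <;> simp <;> ring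
  map_smul' a x := by
    funext i
    rcases i with i | i <;> fin_cases i <;> simp <;> ring

theorem j4_q {α β : F} (h : α ^ 2 - α * β + β ^ 2 = -1) (x : V4 F) : plusForm 4 F (j4 α β x) = q4 x := by
  rw [norm8]
  show (x.1.1 + (x.2.1.1 * α - x.2.1.2 * β)) * (x.1.1 - x.1.2 - (x.2.1.1 * α - x.2.1.2 * β)) +
    (x.1.2 + (x.2.1.1 * β + x.2.1.2 * (α - β))) *
      (x.1.2 + (x.2.1.1 * α - x.2.1.2 * β) - (x.2.1.1 * β + x.2.1.2 * (α - β))) +
    (x.2.2.1.1 + (x.2.2.2.1 * α - x.2.2.2.2 * β)) * (x.2.2.1.1 - x.2.2.1.2 - (x.2.2.2.1 * α - x.2.2.2.2 * β)) +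
    (x.2.2.1.2 + (x.2.2.2.1 * β + x.2.2.2.2 * (α - β))) *
      (x.2.2.1.2 + (x.2.2.2.1 * α - x.2.2.2.2 * β) - (x.2.2.2.1 * β + x.2.2.2.2 * (α - β))) = q4 x
  simp only [q4, nf]
  linear_combination (-(x.2.1.1 ^ 2 - x.2.1.1 * x.2.1.2 + x.2.1.2 ^ 2) -
    (x.2.2.2.1 ^ 2 - x.2.2.2.1 * x.2.2.2.2 + x.2.2.2.2 ^ 2)) * h

theorem j4_inj {α β : F} (h : α ^ 2 - α * β + β ^ 2 = -1) (h3 : (3 : F) ≠ 0) : Function.Injective (j4 α β) := by
  rw [← LinearMap.ker_eq_bot, LinearMap.ker_eq_bot']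
  rintro ⟨⟨a1, b1⟩, ⟨a2, b2⟩, ⟨a3, b3⟩, ⟨a4, b4⟩⟩ hx
  have e1 : a1 + (a2 * α - b2 * β) = 0 := congrFun hx (Sum.inl 0)
  have e2 : b1 + (a2 * β + b2 * (α - β)) = 0 := congrFun hx (Sum.inl 1)
  have e3 : a3 + (a4 * α - b4 * β) = 0 := congrFun hx (Sum.inl 2)
  have e4 : b3 + (a4 * β + b4 * (α - β)) = 0 := congrFun hx (Sum.inl 3)
  have f1 : a1 - b1 - (a2 * α - b2 * β) = 0 := congrFun hx (Sum.inr 0)
  have f2 : b1 + (a2 * α - b2 * β) - (a2 * β + b2 * (α - β)) = 0 := congrFun hx (Sum.inr 1)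
  have f3 : a3 - b3 - (a4 * α - b4 * β) = 0 := congrFun hx (Sum.inr 2)
  have f4 : b3 + (a4 * α - b4 * β) - (a4 * β + b4 * (α - β)) = 0 := congrFun hx (Sum.inr 3)
  have key : ∀ a b a' b' : F, a + (a' * α - b' * β) = 0 → b + (a' * β + b' * (α - β)) = 0 →
      a - b - (a' * α - b' * β) = 0 → b + (a' * α - b' * β) - (a' * β + b' * (α - β)) = 0 →
      a = 0 ∧ b = 0 ∧ a' = 0 ∧ b' = 0 := by
    intro a b a' b' g1 g2 g3 g4
    have k1 : 3 * a = 0 := by linear_combination g1 + g2 + 2 * g3 + g4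
    have ha : a = 0 := (mul_eq_zero.1 k1).resolve_left h3
    have hs : a' * α - b' * β = 0 := by linear_combination g1 - ha
    have hb : b = 0 := by linear_combination ha - hs - g3
    have ht : a' * β + b' * (α - β) = 0 := by linear_combination g2 - hb
    refine ⟨ha, hb, ?_, ?_⟩
    · linear_combination a' * h + (β - α) * hs - β * ht
    · linear_combination b' * h + β * hs - α * ht
  obtain ⟨h1, h2, h3, h4⟩ := key _ _ _ _ e1 e2 f1 f2
  obtain ⟨h5, h6, h7, h8⟩ := key _ _ _ _ e3 e4 f3 f4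
  rw [h1, h2, h3, h4, h5, h6, h7, h8]
  rfl

/-- the isometry onto the hyperbolic space -/
noncomputable def J4 {α β : F} (h : α ^ 2 - α * β + β ^ 2 = -1) (h3 : (3 : F) ≠ 0) : V4 F ≃ₗ[F] (Fin 4 ⊕ Fin 4 → F) :=
  LinearMap.linearEquivOfInjective (j4 α β) (j4_inj h h3) (by
    rw [Module.finrank_prod, Module.finrank_prod, Module.finrank_prod, Module.finrank_prod, Module.finrank_self,
      Module.finrank_fintype_fun_eq_card]
    simp)

/-- **the Sylow 3-subgroups are not abelian** -/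
theorem not_ab_three [Finite F] (h3 : (3 : F) ≠ 0) (hG : Good (plusForm 4 F)) :
    ¬ AbSyl 3 (↥(E (plusForm 4 F)) ⧸ Subgroup.center ↥(E (plusForm 4 F))) := by
  intro hab
  have : Fact (Nat.Prime 3) := ⟨Nat.prime_three⟩
  have hfin := Cfsg.Agent.H988.CopCyc.Orth.finite_quot (plusForm 4 F)
  obtain ⟨α, β, h | h⟩ := exists_ab F
  swap
  · exact h3 h
  let J := J4 h h3
  have hJ : ∀ x, plusForm 4 F (J x) = q4 x := fun x => j4_q h x
  let Φ : (V4 F ≃ₗ[F] V4 F) →* ((Fin 4 ⊕ Fin 4 → F) ≃ₗ[F] (Fin 4 ⊕ Fin 4 → F)) :=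
    { toFun := fun g => (J.symm.trans g).trans J
      map_one' := by ext1 x; show J (J.symm x) = x; rw [J.apply_symm_apply]
      map_mul' := fun a b => by
        apply LinearEquiv.ext
        intro x
        show J (a (b (J.symm x))) = J (a (J.symm (J (b (J.symm x)))))
        rw [J.symm_apply_apply] }
  have hO : ∀ g : V4 F ≃ₗ[F] V4 F, (∀ x, q4 (g x) = q4 x) → Φ g ∈ O (plusForm 4 F) := by
    intro g hg v
    show plusForm 4 F (J (g (J.symm v))) = plusForm 4 F v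
    rw [hJ, hg, ← hJ, J.apply_symm_apply]
  have hE : ∀ g : V4 F ≃ₗ[F] V4 F, (∀ x, q4 (g x) = q4 x) → g ^ 3 = 1 → Φ g ∈ E (plusForm 4 F) := by
    intro g hg hg3
    have h1 : Φ g = Φ g ^ 2 * Φ g ^ 2 := by
      rw [← pow_add, ← map_pow, show 2 + 2 = 3 + 1 from rfl, pow_succ, hg3, one_mul]
    rw [h1]
    exact Cfsg.Agent.H988.CopCyc.Orth.sq_mem_E hG ((O _).pow_mem (hO g hg) 2)
  let c : ↥(E (plusForm 4 F)) := ⟨Φ c4, hE c4 c4_q c4_pow⟩
  let d : ↥(E (plusForm 4 F)) := ⟨Φ d4, hE d4 d4_q d4_pow⟩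
  let z : ↥(E (plusForm 4 F)) := ⟨Φ z4, hE z4 z4_q z4_pow⟩
  have hcd : c * d = z * d * c := Subtype.ext (by
    show Φ c4 * Φ d4 = Φ z4 * Φ d4 * Φ c4
    rw [← map_mul, ← map_mul, ← map_mul, c4_d4])
  have hcz : c * z = z * c := Subtype.ext (by
    show Φ c4 * Φ z4 = Φ z4 * Φ c4
    rw [← map_mul, ← map_mul, c4_z4])
  have hdz : d * z = z * d := Subtype.ext (by
    show Φ d4 * Φ z4 = Φ z4 * Φ d4
    rw [← map_mul, ← map_mul, d4_z4])
  have hc3 : c ^ 3 = 1 := Subtype.ext (by show Φ c4 ^ 3 = 1; rw [← map_pow, c4_pow, map_one])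
  have hd3 : d ^ 3 = 1 := Subtype.ext (by show Φ d4 ^ 3 = 1; rw [← map_pow, d4_pow, map_one])
  have hz3 : z ^ 3 = 1 := Subtype.ext (by show Φ z4 ^ 3 = 1; rw [← map_pow, z4_pow, map_one])
  let π := QuotientGroup.mk' (Subgroup.center ↥(E (plusForm 4 F)))
  have hP : ∀ x : ↥(E (plusForm 4 F)), x ^ 3 = 1 → IsP 3 (π x) := fun x hx => ⟨1, by rw [pow_one, ← map_pow, hx, map_one]⟩
  have h1 : π z = 1 := by
    refine comm_of_ab hab (c := π c) (d := π d) ?_ ?_ ?_ (hP c hc3) (hP d hd3) (hP z hz3)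
    · rw [mul_inv_eq_iff_eq_mul, ← map_mul, ← map_mul, ← map_mul, hcd]
    · rw [← map_mul, ← map_mul, hcz]
    · rw [← map_mul, ← map_mul, hdz]
  have h2 : z ∈ Subgroup.center ↥(E (plusForm 4 F)) := (QuotientGroup.eq_one_iff z).1 h1
  have h4 := Cfsg.Agent.H334.Moved.center_sq hG h2
  have h5 : z = 1 := by
    have h6 := hz3
    rw [pow_succ, pow_two, h4, one_mul] at h6
    exact h6
  have h6 : Φ z4 = 1 := congrArg Subtype.val h5
  have h7 : J (z4 (J.symm (J ((1, 0), 0, 0, 0)))) = J ((1, 0), 0, 0, 0) := LinearEquiv.congr_fun h6 _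
  rw [J.symm_apply_apply] at h7
  have h8 : (z4 ((1, 0), 0, 0, 0) : V4 F) = ((1, 0), 0, 0, 0) := J.injective h7
  have h9 : om (om ((1, 0) : F × F)) = (1, 0) := congrArg Prod.fst h8
  rw [om_apply, om_apply] at h9
  have h10 := congrArg Prod.snd h9
  have h11 := congrArg Prod.fst h9
  simp at h10 h11

end Cfsg.Agent.H462.HT
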