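import Cfsg.Agent.H462.HT.Eig
import Cfsg.Agent.H462.HT.Cut
import Cfsg.Agent.H462.HT.Root
import Cfsg.Agent.H988.CopCyc.Orth

/-!
# S4933, part (O): the element `y` in the orthogonal groups, without types (helper462)
-/

set_option autoImplicit false

namespace Cfsg.Agent.H462.HT

open Polynomial Module

section Bilin

variable {F V : Type*} [Field F] [AddCommGroup V] [Module F V]

/-- the adjoint of `g (t)` is `g (t⁻¹)` -/
theorem adj_poly (B : LinearMap.BilinForm F V) {t t' : Module.End F V} (htt : t * t' = 1)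
    (htB : ∀ x y, B (t x) (t y) = B x y) (g : F[X]) (x y : V) : B (aeval t g x) y = B x (aeval t' g y) := by
  have h1 : ∀ x y, B (t x) y = B x (t' y) := by
    intro x y
    have h2 : t (t' y) = y := by rw [← Module.End.mul_apply, htt, Module.End.one_apply]
    conv_lhs => rw [← h2, htB]
  induction g using Polynomial.induction_on' with
  | add a b ha hb => rw [map_add, map_add, LinearMap.add_apply, LinearMap.add_apply, map_add, map_add, LinearMap.add_apply, ha, hb]
  | monomial n a =>
    rw [aeval_monomial, aeval_monomial, Module.algebraMap_end_eq_smul_id, Module.End.mul_apply, Module.End.mul_apply,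
      LinearMap.smul_apply, LinearMap.smul_apply, LinearMap.id_apply, LinearMap.id_apply, map_smul, map_smul,
      LinearMap.smul_apply]
    congr 1
    induction n generalizing y with
    | zero => rfl
    | succ n ih =>
      rw [pow_succ' t, Module.End.mul_apply, h1, ih, pow_succ t', Module.End.mul_apply]

/-- **an isometry `T` with `T ^ (p ^ m) = t ^ 2`** -/
theorem exists_root_isom (B : LinearMap.BilinForm F V) (hsym : ∀ x y, B x y = B y x) {p m : ℕ} (hp : p.Prime)
    {t : Module.End F V} (ht : t ^ p = 1) (htB : ∀ x y, B (t x) (t y) = B x y) {g : F[X]}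
    (hg : (X ^ p - 1 : F[X]) ∣ g ^ p ^ m - X) :
    ∃ T : Module.End F V, T ^ p ^ m = t ^ 2 ∧ Commute T t ∧ (∀ x y, B (T x) (T y) = B x y) ∧ ∀ x, t x = x → T x = x := by
  set t' : Module.End F V := t ^ (p - 1) with ht'
  have htt : t * t' = 1 := by rw [ht', ← pow_succ', Nat.sub_add_cancel hp.one_lt.le, ht]
  have htt' : t' * t = 1 := by rw [ht', ← pow_succ, Nat.sub_add_cancel hp.one_lt.le, ht]
  have ht'p : t' ^ p = 1 := by rw [ht', ← pow_mul, mul_comm, pow_mul, ht, one_pow]
  have ht'B : ∀ x y, B (t' x) (t' y) = B x y := by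
    intro x y
    rw [← htB (t' x), ← Module.End.mul_apply, ← Module.End.mul_apply, htt, Module.End.one_apply, Module.End.one_apply]
  have key : ∀ s : Module.End F V, s ^ p = 1 → aeval s g ^ p ^ m = s := by
    intro s hs
    obtain ⟨c, hc⟩ := hg
    have h1 : aeval s (g ^ p ^ m - X) = 0 := by
      rw [hc, map_mul, map_sub, map_pow, aeval_X, map_one, hs, sub_self, zero_mul]
    rw [map_sub, map_pow, aeval_X, sub_eq_zero] at h1
    exact h1
  set N := aeval t g with hN
  set N' := aeval t' g with hN'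
  have hNp : N ^ p ^ m = t := key t ht
  have hN'p : N' ^ p ^ m = t' := key t' ht'p
  have hNN : N ^ p ^ (m + 1) = 1 := by rw [pow_succ, pow_mul, hNp, ht]
  have hNN' : N' ^ p ^ (m + 1) = 1 := by rw [pow_succ, pow_mul, hN'p, ht'p]
  have hct : Commute N t := by
    have h1 : Commute (aeval t g) (aeval t (X : F[X])) := by
      rw [Commute, SemiconjBy, ← map_mul, ← map_mul, mul_comm]
    rwa [aeval_X] at h1
  have hct' : Commute N t' := hct.pow_right _
  have hcN' : Commute N' t := by
    have h1 : Commute (aeval t' g) (aeval t' (X : F[X])) := by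
      rw [Commute, SemiconjBy, ← map_mul, ← map_mul, mul_comm]
    rw [aeval_X] at h1
    have h2 : Commute N' (t' ^ (p - 1)) := h1.pow_right _
    have h3 : t' ^ (p - 1) = t := by
      calc t' ^ (p - 1) = t' ^ (p - 1) * (t' * t) := by rw [htt', mul_one]
        _ = t' ^ p * t := by rw [← mul_assoc, ← pow_succ, Nat.sub_add_cancel hp.one_lt.le]
        _ = t := by rw [ht'p, one_mul]
    rwa [h3] at h2
  have hc : Commute N N' := by
    have h1 : N' = aeval t (g.comp (X ^ (p - 1))) := by
      rw [hN', aeval_comp, map_pow, aeval_X]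
    rw [h1, Commute, SemiconjBy, hN, ← map_mul, ← map_mul, mul_comm]
  have hadj : ∀ x y, B (N x) y = B x (N' y) := adj_poly B htt htB g
  have hadj' : ∀ x y, B (N' x) y = B x (N y) := adj_poly B htt' ht'B g
  have hP : 0 < p ^ (m + 1) := pow_pos hp.pos _
  obtain ⟨k, hk⟩ : ∃ k, p ^ (m + 1) = k + 1 := ⟨p ^ (m + 1) - 1, by omega⟩
  have hadjk : ∀ (j : ℕ) (x y), B ((N' ^ j) x) y = B x ((N ^ j) y) := by
    intro j
    induction j with
    | zero => intro x y; rfl
    | succ j ih =>
      intro x y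
      rw [pow_succ', Module.End.mul_apply, hadj', ih, pow_succ, Module.End.mul_apply]
  refine ⟨N * N' ^ k, ?_, ?_, ?_, ?_⟩
  · rw [(hc.pow_right k).mul_pow, hNp, ← pow_mul, mul_comm k, pow_mul, hN'p, pow_two]
    congr 1
    have h1 : t' ^ (k + 1) = 1 := by rw [← hk, pow_succ, mul_comm, pow_mul, ht'p, one_pow]
    calc t' ^ k = t' ^ k * (t' * t) := by rw [htt', mul_one]
      _ = t' ^ (k + 1) * t := by rw [← mul_assoc, ← pow_succ]
      _ = t := by rw [h1, one_mul]
  · exact hct.mul_left (hcN'.pow_left k)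
  · intro x y
    have e1 : (N' * (N * N' ^ k) : Module.End F V) = N := by
      rw [← mul_assoc, ← hc.eq, mul_assoc, ← pow_succ', ← hk, hNN', mul_one]
    have e2 : (N ^ k * N : Module.End F V) = 1 := by rw [← pow_succ, ← hk, hNN]
    rw [Module.End.mul_apply N, hadj, ← Module.End.mul_apply N', e1, hadjk, ← Module.End.mul_apply, e2, Module.End.one_apply]
  · intro x hx
    have h1 : ∀ (s : Module.End F V), s x = x → ∀ g : F[X], aeval s g x = eval 1 g • x := by
      intro s hs g
      have h2 : s.HasEigenvector 1 x ∨ x = 0 := by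
        by_cases h0 : x = 0
        · exact Or.inr h0
        · exact Or.inl ⟨Module.End.mem_eigenspace_iff.2 (by rw [hs, one_smul]), h0⟩
      rcases h2 with h2 | h2
      · exact Module.End.aeval_apply_of_hasEigenvector h2
      · rw [h2, map_zero, smul_zero]
    have ht'x : t' x = x := by
      rw [ht']
      have : ∀ j : ℕ, (t ^ j) x = x := by
        intro j
        induction j with
        | zero => rfl
        | succ j ih => rw [pow_succ, Module.End.mul_apply, hx, ih]
      exact this _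
    have h3 : N' x = N x := by rw [hN', hN, h1 t' ht'x, h1 t hx]
    have h4 : ∀ j : ℕ, (N' ^ j) x = (N ^ j) x := by
      intro j
      induction j with
      | zero => rfl
      | succ j ih =>
        rw [pow_succ, Module.End.mul_apply, h3, ← Module.End.mul_apply, ← (hc.pow_right j).eq, Module.End.mul_apply, ih,
          ← Module.End.mul_apply, pow_succ']
    rw [Module.End.mul_apply, h4, ← Module.End.mul_apply, ← pow_succ', ← hk, hNN, Module.End.one_apply]

end Bilin

section Quad

open QuadraticMap Cfsg.Agent.LieClassical.OrthCore Cfsg.Agent.LieClassical.OrthTrans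

variable {F V : Type*} [Field F] [Finite F] [AddCommGroup V] [Module F V] [FiniteDimensional F V] {Q : QuadraticForm F V}

/-- isometries of the polar form commuting with `t` -/
theorem map_Q_of_comm {p : ℕ} (hpF : (p : F) ≠ 0) {t T : Module.End F V} (ht : t ^ p = 1) (htQ : ∀ x, Q (t x) = Q x)
    (hc : Commute T t) (hTB : ∀ x y, polar Q (T x) (T y) = polar Q x y) (hT1 : ∀ x, t x = x → T x = x) (x : V) :
    Q (T x) = Q x := by
  have hadd : ∀ a b, Q (T (a + b)) - Q (a + b) = (Q (T a) - Q a) + (Q (T b) - Q b) := by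
    intro a b
    rw [map_add, Q_add, Q_add, hTB]
    ring
  set δ : V →+ F := { toFun := fun a => Q (T a) - Q a, map_zero' := by simp, map_add' := hadd } with hδ
  have hδt : ∀ a, δ (t a) = δ a := by
    intro a
    show Q (T (t a)) - Q (t a) = Q (T a) - Q a
    rw [← Module.End.mul_apply, hc.eq, Module.End.mul_apply, htQ, htQ]
  have hδk : ∀ (k : ℕ) (a : V), δ ((t ^ k) a) = δ a := by
    intro k
    induction k with
    | zero => intro a; rfl
    | succ k ih => intro a; rw [pow_succ, Module.End.mul_apply, ih, hδt]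
  have h1 : δ (∑ k ∈ Finset.range p, (t ^ k) x) = p • δ x := by
    rw [map_sum, Finset.sum_congr rfl fun k _ => hδk k x, Finset.sum_const, Finset.card_range]
  have h2 : t (∑ k ∈ Finset.range p, (t ^ k) x) = ∑ k ∈ Finset.range p, (t ^ k) x := by
    have h3 := Finset.sum_range_succ (fun k => (t ^ k) x) p
    have h4 := Finset.sum_range_succ' (fun k => (t ^ k) x) p
    rw [h3, ht, pow_zero] at h4
    have h5 := add_right_cancel h4
    rw [map_sum]
    conv_rhs => rw [h5]
    refine Finset.sum_congr rfl fun k _ => ?_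
    rw [← Module.End.mul_apply, ← pow_succ']
  have h3 : δ (∑ k ∈ Finset.range p, (t ^ k) x) = 0 := by
    show Q (T _) - Q _ = 0
    rw [hT1 _ h2, sub_self]
  rw [h3, nsmul_eq_mul] at h1
  have h4 := (mul_eq_zero.1 h1.symm).resolve_left hpF
  exact sub_eq_zero.1 h4

/-- **cutting down an isometry of order `p`** -/
theorem exists_cut (hQ : Nondeg Q) {p e : ℕ} (hp : p.Prime) (he : 0 < e) (ho : orderOf ((Nat.card F : ℕ) : ZMod p) = e)
    {t : Module.End F V} (ht : t ^ p = 1) (ht1 : t ≠ 1) (htQ : ∀ x, Q (t x) = Q x) :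
    ∃ s : Module.End F V, s ^ p = 1 ∧ s ≠ 1 ∧ (∀ x, Q (s x) = Q x) ∧
      finrank F V ≤ finrank F (LinearMap.ker (s - 1)) + 2 * e := by
  have htB : ∀ x y, polarBilin Q (t x) (t y) = polarBilin Q x y := by
    intro x y
    rw [polarBilin_apply_apply, polarBilin_apply_apply]
    simp only [polar, ← map_add, htQ]
  have hrefl : (polarBilin Q).IsRefl := by
    intro x y h
    rw [polarBilin_apply_apply] at h ⊢
    rw [polar_comm, h]
  obtain ⟨U, hUt, hUe, hUc, u, hu, htu⟩ := exists_nondeg hp he ho (polarBilin Q) hrefl hQ ht ht1 htB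
  set U' : Submodule F V := LinearMap.BilinForm.orthogonal (polarBilin Q) U with hU'
  let tU : U →ₗ[F] V := t.comp U.subtype
  let s : Module.End F V := LinearMap.ofIsCompl hUc tU U'.subtype
  have hsU : ∀ a ∈ U, s a = t a := fun a ha => by
    have := LinearMap.ofIsCompl_apply_left (h := hUc) (φ := tU) (ψ := U'.subtype) ⟨a, ha⟩
    exact this
  have hsU' : ∀ a ∈ U', s a = a := fun a ha => by
    have := LinearMap.ofIsCompl_apply_right (h := hUc) (φ := tU) (ψ := U'.subtype) ⟨a, ha⟩
    exact this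
  have hdec : ∀ x : V, ∃ a ∈ U, ∃ b ∈ U', x = a + b := by
    intro x
    have hx : x ∈ U ⊔ U' := by rw [hUc.sup_eq_top]; trivial
    obtain ⟨a, ha, b, hb, rfl⟩ := Submodule.mem_sup.1 hx
    exact ⟨a, ha, b, hb, rfl⟩
  have hpow : ∀ (k : ℕ) (a : V), a ∈ U → (s ^ k) a = (t ^ k) a ∧ (t ^ k) a ∈ U := by
    intro k
    induction k with
    | zero => intro a ha; exact ⟨rfl, ha⟩
    | succ k ih =>
      intro a ha
      obtain ⟨h1, h2⟩ := ih a ha
      rw [pow_succ', pow_succ', Module.End.mul_apply, Module.End.mul_apply, h1, hsU _ h2]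
      exact ⟨rfl, hUt _ h2⟩
  have hpow' : ∀ (k : ℕ) (a : V), a ∈ U' → (s ^ k) a = a := by
    intro k
    induction k with
    | zero => intro a _; rfl
    | succ k ih => intro a ha; rw [pow_succ', Module.End.mul_apply, ih a ha, hsU' a ha]
  refine ⟨s, ?_, ?_, ?_, ?_⟩
  · apply LinearMap.ext
    intro x
    obtain ⟨a, ha, b, hb, rfl⟩ := hdec x
    rw [map_add, (hpow p a ha).1, hpow' p b hb, ht]
    rfl
  · intro h
    apply htu
    rw [← hsU u hu, h, Module.End.one_apply]
  · intro x
    obtain ⟨a, ha, b, hb, rfl⟩ := hdec x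
    rw [map_add, hsU a ha, hsU' b hb, Q_add, Q_add, htQ]
    have h1 : polar Q (t a) b = 0 := hb _ (hUt a ha)
    have h2 : polar Q a b = 0 := hb _ ha
    rw [h1, h2]
  · have h1 : U' ≤ LinearMap.ker (s - 1) := by
      intro a ha
      rw [LinearMap.mem_ker, LinearMap.sub_apply, hsU' a ha, Module.End.one_apply, sub_self]
    have h2 := Submodule.finrank_mono h1
    have h3 := Submodule.finrank_add_eq_of_isCompl hUc
    omega

end Quad

section Main

open QuadraticMap Cfsg.Agent.LieClassical.OrthCore Cfsg.Agent.LieClassical.OrthTrans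

variable {F V K : Type} [Field F] [Fintype F] [AddCommGroup V] [Module F V] [FiniteDimensional F V] {Q : QuadraticForm F V}
  [Field K] [Algebra F K] [IsAlgClosed K]

/-- **the element `y`** -/
theorem exists_y (hG : Good Q) {p e m : ℕ} (hp : p.Prime) (hp2 : p ≠ 2) (hpd : p ∣ Nat.card ↥(E Q)) (he : 0 < e)
    (ho : orderOf ((Fintype.card F : ℕ) : ZMod p) = e) (hm : 1 ≤ m) (hd : p ^ (m + 1) ∣ Fintype.card F ^ e - 1)
    {ω : K} (hω : IsPrimitiveRoot ω (p ^ (m + 1))) :
    ∃ (y : ↥(E Q)) (s : Multiset ℕ), y ^ p ^ (m + 1) = 1 ∧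
      ((LinearMap.charpoly ((y : V ≃ₗ[F] V) : V →ₗ[F] V)).map (algebraMap F K)).roots = s.map (fun k => ω ^ k) ∧
      ¬ p ∣ (s.filter fun k => k % p ^ m = 1).card := by
  classical
  have hfac : Fact p.Prime := ⟨hp⟩
  have ho' : orderOf ((Nat.card F : ℕ) : ZMod p) = e := by rw [Nat.card_eq_fintype_card]; exact ho
  have hpF := cast_ne_zero_of_order (F := F) hp he ho'
  have hV : Finite V := Module.finite_of_finite F
  have hL : Finite (V ≃ₗ[F] V) := Finite.of_injective (fun e : V ≃ₗ[F] V => (e : V → V)) DFunLike.coe_injective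
  obtain ⟨t₀, ht₀⟩ := exists_prime_orderOf_dvd_card' p hpd
  have ht₀p : t₀ ^ p = 1 := by rw [← ht₀]; exact pow_orderOf_eq_one _
  have ht₀1 : t₀ ≠ 1 := by
    intro h
    rw [h, orderOf_one] at ht₀
    exact hp.one_lt.ne ht₀
  let coe : (V ≃ₗ[F] V) →* Module.End F V :=
    { toFun := fun y => (y : V →ₗ[F] V), map_one' := rfl, map_mul' := fun _ _ => rfl }
  have hinj : Function.Injective coe := fun a b h => LinearEquiv.toLinearMap_injective h
  have ht₀' : (t₀ : V ≃ₗ[F] V) ^ p = 1 := by rw [← Subgroup.coe_pow, ht₀p, Subgroup.coe_one]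
  obtain ⟨s, hsp, hs1, hsQ, hsk⟩ := exists_cut hG.nondeg hp he ho' (t := coe t₀)
    (by rw [← map_pow, ht₀', map_one]) (fun h => ht₀1 (Subtype.ext (hinj (by rw [h, Subgroup.coe_one, map_one]))))
    (fun x => E_le_O t₀.2 x)
  obtain ⟨g, hg⟩ := exists_poly F hp hm ho' he (by rw [Nat.card_eq_fintype_card]; exact hd)
  obtain ⟨T, hTm, hTs, hTB, hTf⟩ := exists_root_isom (polarBilin Q)
    (fun x y => by rw [polarBilin_apply_apply, polarBilin_apply_apply, polar_comm]) hp hsp (fun x y => by
      rw [polarBilin_apply_apply, polarBilin_apply_apply]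
      simp only [polar, ← map_add, hsQ]) hg
  have hTQ : ∀ x, Q (T x) = Q x := map_Q_of_comm hpF hsp hsQ hTs (fun x y => by
    have := hTB x y
    rwa [polarBilin_apply_apply, polarBilin_apply_apply] at this) hTf
  have hTN : T ^ p ^ (m + 1) = 1 := by
    rw [pow_succ, pow_mul, hTm, ← pow_mul, mul_comm, pow_mul, hsp, one_pow]
  have hodd : Odd p := hp.odd_of_ne_two hp2
  have hTm1 : T ^ p ^ m ≠ 1 := by
    rw [hTm]
    intro h
    apply hs1
    obtain ⟨k, hk⟩ := hodd
    have h1 := hsp
    rw [hk, pow_succ, pow_mul, h, one_pow, one_mul] at h1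
    exact h1
  have hker : finrank F V ≤ finrank F (LinearMap.ker (T - 1)) + 2 * e := by
    have h1 : LinearMap.ker (s - 1) ≤ LinearMap.ker (T - 1) := by
      intro x hx
      rw [LinearMap.mem_ker, LinearMap.sub_apply, sub_eq_zero, Module.End.one_apply] at hx ⊢
      exact hTf x hx
    have h2 := Submodule.finrank_mono h1
    omega
  obtain ⟨j, l, hl1, hl2⟩ := exists_good (K := K) hp hp2 hpF he ho hm hω hTN hTm1 hker
  obtain ⟨k, hk⟩ : ∃ k, p ^ (m + 1) = k + 1 := ⟨p ^ (m + 1) - 1, by have := pow_pos hp.pos (m + 1); omega⟩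
  let y₁ : V ≃ₗ[F] V := LinearEquiv.ofLinearMap T (T ^ k) (by
    show T * T ^ k = 1
    rw [← pow_succ', ← hk, hTN]) (by
    show T ^ k * T = 1
    rw [← pow_succ, ← hk, hTN])
  have hcoe : coe y₁ = T := rfl
  have hyO : y₁ ∈ O Q := fun x => hTQ x
  have hyN : y₁ ^ p ^ (m + 1) = 1 := by
    apply hinj
    rw [map_pow, hcoe, hTN, map_one]
  obtain ⟨i, hi⟩ : Odd (p ^ (m + 1)) := hodd.pow
  have hyE : y₁ ∈ E Q := by
    have h1 : y₁ ^ (i + 1) * y₁ ^ (i + 1) = y₁ := by
      rw [← pow_add, show i + 1 + (i + 1) = (2 * i + 1) + 1 by ring, ← hi, pow_succ, hyN, one_mul]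
    rw [← h1]
    exact Cfsg.Agent.H988.CopCyc.Orth.sq_mem_E hG ((O Q).pow_mem hyO _)
  refine ⟨⟨y₁, hyE⟩ ^ j, l, ?_, ?_, ?_⟩
  · apply Subtype.ext
    rw [← pow_mul, mul_comm, pow_mul, Subgroup.coe_pow, Subgroup.coe_pow]
    show (y₁ ^ p ^ (m + 1)) ^ j = 1
    rw [hyN, one_pow]
  · rw [← hl1, evs]
    congr 3
    show coe (((⟨y₁, hyE⟩ : ↥(E Q)) ^ j : ↥(E Q)) : V ≃ₗ[F] V) = T ^ j
    rw [Subgroup.coe_pow, map_pow]
    rfl
  · convert hl2 using 3

end Main

end Cfsg.Agent.H462.HT
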